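import Mathlib
import Groth.Prelude.Def_Red2
import Groth.Prelude.Def_TwC
import Groth.Prelude.Def_NonAbH2
import Groth.Agent.H27Witt.GaCoord
import Groth.Agent.H27ArtSch.Algebra

/-! The Artin–Schreier sequence. -/

set_option autoImplicit false
set_option linter.style.haveILetI false
set_option backward.isDefEq.respectTransparency false
set_option backward.isDefEq.respectTransparency.types false
universe u

open CategoryTheory CategoryTheory.Limits AlgebraicGeometry MonoidalCategory CartesianMonoidalCategory MonObj GrpObj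
open TopologicalSpace Opposite

namespace Groth.Agent.H8Props.ASeq

open H27Witt.GaCoord

variable {S : Scheme.{u}} {p : ℕ}

theorem natCast_eq_zero (hp : (p : Γ(S, ⊤)) = 0) (T : Over S) : (p : Γ(T.left, ⊤)) = 0 := by
  rw [← map_natCast T.hom.appTop.hom p, hp, map_zero]

theorem gaFn_inv {T : Over S} (x : T ⟶ Red.Ga S) : Red.gaFn x⁻¹ = - Red.gaFn x := by
  have h := gaFn_mul x x⁻¹
  rw [mul_inv_cancel, gaFn_one] at h
  exact eq_neg_of_add_eq_zero_right h.symm

theorem isMonHom_of_additive (u : Red.Ga S ⟶ Red.Ga S)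
    (hadd : ∀ (T : Over S) (x y : T ⟶ Red.Ga S), Red.gaFn ((x * y) ≫ u) = Red.gaFn (x ≫ u) + Red.gaFn (y ≫ u)) :
    IsMonHom u := by
  have h : ∀ (T : Over S) (x y : T ⟶ Red.Ga S), (x * y) ≫ u = (x ≫ u) * (y ≫ u) := fun T x y =>
    gaFn_injective (by rw [hadd, gaFn_mul])
  have h1 : ∀ T : Over S, (1 : T ⟶ Red.Ga S) ≫ u = 1 := fun T => by
    have h2 := @_root_.one_mul (T ⟶ Red.Ga S) Monoid.toMulOneClass (1 : T ⟶ Red.Ga S)
    have := hadd T 1 1
    rw [h2] at this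
    exact gaFn_injective ((left_eq_add.1 this).trans gaFn_one.symm)
  constructor
  · have := h1 (𝟙_ (Over S))
    simpa [Hom.one_def] using this
  · have := h (Red.Ga S ⊗ Red.Ga S) (fst _ _) (snd _ _)
    simpa [Hom.mul_def] using this

theorem exists_cast_eq (p : ℕ) [Fact p.Prime] {K : Type u} [Field K] (hK : (p : K) = 0) (x : K) (hx : x ^ p = x) :
    ∃ j : ZMod p, x = (j.val : K) := by
  haveI : CharP K p := (CharP.charP_iff_prime_eq_zero (Fact.out : p.Prime)).2 hK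
  have hm := (Subfield.mem_bot_iff_pow_eq_self K p).2 hx
  rw [← ZMod.fieldRange_castHom_eq_bot p] at hm
  obtain ⟨j, hj⟩ := hm
  exact ⟨j, by rw [ZMod.natCast_val, ← ZMod.castHom_apply (h := dvd_refl p)]; exact hj.symm⟩

theorem isUnit_cast_sub (p : ℕ) [Fact p.Prime] {R : Type u} [CommRing R] (hR : (p : R) = 0) {j k : ZMod p} (h : j ≠ k) :
    IsUnit ((j.val : R) - k.val) := by
  haveI := (CharP.charP_iff_prime_eq_zero (R := ZMod p) (Fact.out : p.Prime)).2 (ZMod.natCast_self p)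
  let c : ZMod p →+* R := ZMod.castHom (ringChar.dvd hR) R
  have hc : ∀ i : ZMod p, c i = (i.val : R) := fun i => by rw [← ZMod.natCast_zmod_val i, map_natCast, ZMod.natCast_zmod_val]
  rw [← hc, ← hc, ← map_sub]
  exact (isUnit_iff_ne_zero.2 (sub_ne_zero.2 h)).map c

/-- A function fixed by Frobenius is locally a constant of the prime field. -/
theorem exists_cover (p : ℕ) [Fact p.Prime] {X : Scheme.{u}} (hp : (p : Γ(X, ⊤)) = 0) (f : Γ(X, ⊤)) (hf : f ^ p = f) :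
    ∃ V : ZMod p → X.Opens, IsOpenCover V ∧ (∀ j, (V j).ι.appTop f = (j.val : Γ(↑(V j), ⊤))) ∧
      ∀ j k, j ≠ k → ∀ x, ¬ (x ∈ V j ∧ x ∈ V k) := by
  let g : ZMod p → Γ(X, ⊤) := fun j => f - (j.val : Γ(X, ⊤))
  have hg : ∀ j, g j ^ p = g j := fun j => by
    have h2 : ((j.val : Γ(X, ⊤))) ^ p = j.val := by
      let c : ZMod p →+* Γ(X, ⊤) := ZMod.castHom (ringChar.dvd hp) Γ(X, ⊤)
      rw [show (j.val : Γ(X, ⊤)) = c j from by rw [← map_natCast c, ZMod.natCast_zmod_val], ← map_pow, ZMod.pow_card]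
    have h3 := H27ArtSch.add_pow p hp (g j) (j.val : Γ(X, ⊤))
    rw [sub_add_cancel, hf, h2] at h3
    linear_combination -h3
  let V : ZMod p → X.Opens := fun j => X.basicOpen (1 - g j ^ (p - 1))
  have hmem : ∀ j (x : X), x ∈ V j ↔ X.evaluation ⊤ x trivial (g j) = 0 := fun j x => by
    rw [Scheme.mem_basicOpen_top, ← IsLocalRing.residue_ne_zero_iff_isUnit]
    show X.evaluation ⊤ x trivial (1 - g j ^ (p - 1)) ≠ 0 ↔ _
    rw [map_sub, map_one, map_pow, sub_ne_zero]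
    constructor
    · intro h
      by_contra h0
      refine h ?_
      have h1 : X.evaluation ⊤ x trivial (g j) ^ p = X.evaluation ⊤ x trivial (g j) := by rw [← map_pow, hg]
      conv_lhs at h1 => rw [← Nat.sub_add_cancel (Fact.out : p.Prime).one_le, pow_succ]
      exact (mul_eq_right₀ h0).1 h1 |>.symm
    · intro h
      rw [h, zero_pow (by have := (Fact.out : p.Prime).two_le; omega)]
      exact one_ne_zero
  refine ⟨V, ?_, fun j => ?_, fun j k hjk x ⟨hj, hk⟩ => ?_⟩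
  · rw [IsOpenCover, eq_top_iff]
    intro x _
    rw [Opens.mem_iSup]
    obtain ⟨j, hj⟩ := exists_cast_eq p (K := X.residueField x) (by rw [← map_natCast (X.evaluation ⊤ x trivial).hom, hp, map_zero])
      (X.evaluation ⊤ x trivial f) (by rw [← map_pow, hf])
    exact ⟨j, (hmem j x).2 (by simp only [g, map_sub, map_natCast, hj, sub_self])⟩
  · have hu : IsUnit ((V j).ι.appTop (1 - g j ^ (p - 1))) := by
      refine RingedSpace.isUnit_of_isUnit_germ _ ⊤ _ fun x hx => ?_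
      have h1 := (Scheme.mem_basicOpen_top X (1 - g j ^ (p - 1)) ((V j).ι x)).1 x.2
      have h2 := h1.map ((V j).ι.stalkMap x).hom
      rwa [Scheme.Hom.germ_stalkMap_apply] at h2
    have h0 : (V j).ι.appTop (g j) * (V j).ι.appTop (1 - g j ^ (p - 1)) = 0 := by
      rw [← map_mul, mul_sub, _root_.mul_one, ← pow_succ', Nat.sub_add_cancel (Fact.out : p.Prime).one_le, hg, sub_self, map_zero]
    have h4 := hu.mul_left_eq_zero.1 h0
    rw [map_sub, sub_eq_zero, map_natCast] at h4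
    exact h4
  · have h1 := (hmem j x).1 hj
    have h2 := (hmem k x).1 hk
    simp only [g, map_sub, map_natCast, sub_eq_zero] at h1 h2
    exact not_isUnit_zero ((sub_eq_zero.2 (h2.symm.trans h1).symm) ▸ isUnit_cast_sub p
      (R := X.residueField x) (by rw [← map_natCast (X.evaluation ⊤ x trivial).hom, hp, map_zero]) hjk)

theorem appTop_isoSpec_inv (X : Scheme.{u}) [IsAffine X] :
    X.isoSpec.inv.appTop = (Scheme.ΓSpecIso Γ(X, ⊤)).inv := by
  rw [← cancel_epi (Scheme.ΓSpecIso Γ(X, ⊤)).hom, Iso.hom_inv_id, ← Scheme.toSpecΓ_appTop,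
    ← Scheme.Hom.comp_appTop]
  rw [show X.isoSpec.inv ≫ X.toSpecΓ = 𝟙 _ from X.isoSpec.inv_hom_id, Scheme.Hom.id_appTop]

/-- The points of the constant scheme. -/
theorem exists_gluing {M : Type} (T : Over S) (V : M → T.left.Opens) (hV : IsOpenCover V)
    (hd : ∀ j k, j ≠ k → ∀ x, ¬ (x ∈ V j ∧ x ∈ V k)) :
    ∃ z : T ⟶ TwC.const S M, ∀ j,
      (Over.homMk (U := Over.mk ((V j).ι ≫ T.hom)) (V j).ι rfl : _ ⟶ T) ≫ z = toUnit _ ≫ TwC.pt S M j := by
  let 𝒰 := T.left.openCoverOfIsOpenCover V hV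
  let m : ∀ j : M, (↑(V j) : Scheme.{u}) ⟶ (TwC.const S M).left := fun j =>
    (V j).ι ≫ T.hom ≫ Sigma.ι (fun _ : M => S) j
  let z := Scheme.Cover.glueMorphisms 𝒰 m fun j k => by
    by_cases hjk : j = k
    · subst hjk
      have h : pullback.fst (𝒰.f j) (𝒰.f j) = pullback.snd (𝒰.f j) (𝒰.f j) :=
        (cancel_mono (V j).ι).1 pullback.condition
      rw [h]
    · haveI : IsEmpty (pullback (𝒰.f j) (𝒰.f k) : Scheme.{u}) := ⟨fun y => by
        have h := congr($(pullback.condition (f := 𝒰.f j) (g := 𝒰.f k)) y)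
        exact hd j k hjk ((V j).ι (pullback.fst (𝒰.f j) (𝒰.f k) y))
          ⟨(pullback.fst (𝒰.f j) (𝒰.f k) y).2, by
            have h' : (V j).ι (pullback.fst (𝒰.f j) (𝒰.f k) y) = (V k).ι (pullback.snd (𝒰.f j) (𝒰.f k) y) := h
            rw [h']; exact (pullback.snd (𝒰.f j) (𝒰.f k) y).2⟩⟩
      exact isInitialOfIsEmpty.hom_ext _ _
  have hz : ∀ j, 𝒰.f j ≫ z = m j := fun j => Scheme.Cover.ι_glueMorphisms 𝒰 m _ j
  have hw : z ≫ (TwC.const S M).hom = T.hom := Scheme.Cover.hom_ext 𝒰 _ _ fun j => by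
    rw [← Category.assoc, hz]
    simp [m]
    rfl
  refine ⟨Over.homMk z hw, fun j => Over.OverMorphism.ext ?_⟩
  show (V j).ι ≫ z = _ ≫ Sigma.ι (fun _ : M => S) j
  rw [show (V j).ι ≫ z = m j from hz j]
  simp [m]

/-- Two points of the constant scheme are locally given by indices. -/
theorem exists_local_index {M : Type} {T : Over S} (z : T ⟶ TwC.const S M) (x : T.left) :
    ∃ (W : T.left.Opens) (j : M), x ∈ W ∧
      (Over.homMk (U := Over.mk (W.ι ≫ T.hom)) W.ι rfl : _ ⟶ T) ≫ z = toUnit _ ≫ TwC.pt S M j := by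
  obtain ⟨j, y, hy⟩ := (sigmaOpenCover fun _ : M => S).exists_eq (z.left x)
  let sj := Sigma.ι (fun _ : M => S) j
  refine ⟨z.left ⁻¹ᵁ sj.opensRange, j, ⟨y, hy⟩, Over.OverMorphism.ext ?_⟩
  let l := IsOpenImmersion.lift sj ((z.left ⁻¹ᵁ sj.opensRange).ι ≫ z.left) (by
    rintro _ ⟨w, rfl⟩; exact w.2)
  have hl : l ≫ sj = (z.left ⁻¹ᵁ sj.opensRange).ι ≫ z.left := IsOpenImmersion.lift_fac _ _ _
  have hl2 : l = (z.left ⁻¹ᵁ sj.opensRange).ι ≫ T.hom := by
    have h := congr($hl ≫ (TwC.const S M).hom)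
    rw [Category.assoc, Category.assoc, Over.w z] at h
    simpa [sj] using h
  show (z.left ⁻¹ᵁ sj.opensRange).ι ≫ z.left = _ ≫ sj
  rw [← hl, hl2]
  simp

theorem main (p : ℕ) [Fact p.Prime] {S : Scheme.{u}}
    (hp : (p : Γ(S, ⊤)) = 0) (F : Red.Ga S ⟶ Red.Ga S)
    (hF : ∀ (T : Over S) (x : T ⟶ Red.Ga S), Red.gaFn (x ≫ F) = Red.gaFn x ^ p)
    {G' : Over S} [GrpObj G'] (e : G' ≅ TwC.const S (Multiplicative (ZMod p)))
    (he : TwC.IsConstGrp (Multiplicative (ZMod p)) G' e)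
    (i : G' ⟶ Red.Ga S) [IsMonHom i]
    (hi : Red.gaFn (TwC.pt S (Multiplicative (ZMod p)) (Multiplicative.ofAdd 1) ≫ e.inv ≫ i) = 1) :
    NonAbH1.IsExactSeq Scheme.fpqcPrecoverage i (𝟙 (Red.Ga S) * F⁻¹) := by
  classical
  have hpT := natCast_eq_zero hp
  -- the difference map
  set v : Red.Ga S ⟶ Red.Ga S := 𝟙 (Red.Ga S) * F⁻¹
  have hv : ∀ (T : Over S) (x : T ⟶ Red.Ga S), Red.gaFn (x ≫ v) = Red.gaFn x - Red.gaFn x ^ p := fun T x => by
    rw [MonObj.comp_mul, GrpObj.comp_inv, gaFn_mul, gaFn_inv, hF, Category.comp_id, sub_eq_add_neg]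
  haveI : IsMonHom v := isMonHom_of_additive v fun T x y => by
    rw [hv, hv, hv, gaFn_mul, H27ArtSch.add_pow p (hpT T)]
    ring
  have hi_mul : ∀ {T : Over S} (x y : T ⟶ G'), (x * y) ≫ i = (x ≫ i) * (y ≫ i) := fun x y => MonObj.mul_comp x y i
  have hv_mul : ∀ {T : Over S} (x y : T ⟶ Red.Ga S), (x * y) ≫ v = (x ≫ v) * (y ≫ v) := fun x y => MonObj.mul_comp x y v
  have hv_inv : ∀ {T : Over S} (x : T ⟶ Red.Ga S), x⁻¹ ≫ v = (x ≫ v)⁻¹ := fun x => GrpObj.inv_comp x v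
  -- values at the points
  let P : ZMod p → (𝟙_ (Over S) ⟶ Red.Ga S) := fun j =>
    TwC.pt S (Multiplicative (ZMod p)) (Multiplicative.ofAdd j) ≫ e.inv ≫ i
  have hPadd : ∀ j k, Red.gaFn (P (j + k)) = Red.gaFn (P j) + Red.gaFn (P k) := fun j k => by
    simp only [P, ofAdd_add]
    rw [← Category.assoc, ← he, hi_mul, gaFn_mul, Category.assoc, Category.assoc]
  have hPn : ∀ n : ℕ, Red.gaFn (P n) = n := fun n => by
    induction n with
    | zero => have h := hPadd 0 0; rw [zero_add] at h; rw [Nat.cast_zero, Nat.cast_zero]; exact left_eq_add.1 h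
    | succ n ih => rw [Nat.cast_succ, Nat.cast_succ, hPadd, ih]; congr 1
  have hP : ∀ (T : Over S) (j : ZMod p), Red.gaFn (toUnit T ≫ P j) = (j.val : Γ(T.left, ⊤)) := fun T j => by
    have h := hPn j.val
    rw [ZMod.natCast_zmod_val] at h
    rw [gaFn_comp, h, map_natCast]
  -- mono
  haveI : Mono i := ⟨fun {T} z₁ z₂ h => by
    rw [← cancel_mono e.hom]
    refine Over.OverMorphism.ext (Scheme.hom_ext_of_forall _ _ fun x => ?_)
    obtain ⟨W₁, j, hx₁, h₁⟩ := exists_local_index (z₁ ≫ e.hom) x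
    obtain ⟨W₂, k, hx₂, h₂⟩ := exists_local_index (z₂ ≫ e.hom) x
    refine ⟨W₁ ⊓ W₂, ⟨hx₁, hx₂⟩, ?_⟩
    let T' : Over S := Over.mk ((W₁ ⊓ W₂).ι ≫ T.hom)
    let a₁ : T' ⟶ Over.mk (W₁.ι ≫ T.hom) := Over.homMk (T.left.homOfLE inf_le_left) (by simp [T'])
    let a₂ : T' ⟶ Over.mk (W₂.ι ≫ T.hom) := Over.homMk (T.left.homOfLE inf_le_right) (by simp [T'])
    let w : T' ⟶ T := Over.homMk (W₁ ⊓ W₂).ι rfl
    have h₁' : w ≫ z₁ ≫ e.hom = toUnit _ ≫ TwC.pt S _ j := by
      rw [show w = a₁ ≫ Over.homMk W₁.ι rfl from Over.OverMorphism.ext (T.left.homOfLE_ι inf_le_left).symm,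
        Category.assoc, h₁, ← Category.assoc, comp_toUnit]
    have h₂' : w ≫ z₂ ≫ e.hom = toUnit _ ≫ TwC.pt S _ k := by
      rw [show w = a₂ ≫ Over.homMk W₂.ι rfl from Over.OverMorphism.ext (T.left.homOfLE_ι inf_le_right).symm,
        Category.assoc, h₂, ← Category.assoc, comp_toUnit]
    have key : j = k := by
      have e₁ : w ≫ z₁ ≫ i = toUnit _ ≫ P j.toAdd := by
        show _ = toUnit _ ≫ TwC.pt S _ j ≫ e.inv ≫ i
        rw [← reassoc_of% h₁', e.hom_inv_id_assoc]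
      have e₂ : w ≫ z₂ ≫ i = toUnit _ ≫ P k.toAdd := by
        show _ = toUnit _ ≫ TwC.pt S _ k ≫ e.inv ≫ i
        rw [← reassoc_of% h₂', e.hom_inv_id_assoc]
      have h3 := congrArg Red.gaFn (e₁.symm.trans ((congrArg (w ≫ ·) h).trans e₂))
      rw [hP, hP] at h3
      by_contra hne
      have hu := isUnit_cast_sub p (R := Γ(T'.left, ⊤)) (hpT T') (j := j.toAdd) (k := k.toAdd) hne
      rw [h3, sub_self] at hu
      have hy := hu.map (T'.left.presheaf.germ ⊤ (⟨x, hx₁, hx₂⟩ : (↑(W₁ ⊓ W₂) : Scheme.{u})) trivial).hom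
      rw [map_zero] at hy
      exact not_isUnit_zero hy
    exact congrArg CommaMorphism.left (h₁'.trans ((by rw [key] : toUnit T' ≫ TwC.pt S _ j = _).trans h₂'.symm))⟩
  -- composite
  have huv : i ≫ v = 1 := by
    rw [← cancel_epi e.inv]
    refine Over.OverMorphism.ext (Sigma.hom_ext _ _ fun j => ?_)
    have : (TwC.pt S _ j ≫ e.inv) ≫ i ≫ v = (TwC.pt S _ j ≫ e.inv) ≫ 1 := by
      refine gaFn_injective ?_
      rw [MonObj.comp_one, gaFn_one, ← Category.assoc, hv]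
      have h := hPn j.toAdd.val
      rw [ZMod.natCast_zmod_val] at h
      rw [Category.assoc]
      show Red.gaFn (P j.toAdd) - Red.gaFn (P j.toAdd) ^ p = 0
      rw [h]
      haveI := (CharP.charP_iff_prime_eq_zero (R := ZMod p) (Fact.out : p.Prime)).2 (ZMod.natCast_self p)
      let c : ZMod p →+* Γ((𝟙_ (Over S)).left, ⊤) := ZMod.castHom (ringChar.dvd (hpT _)) _
      rw [← map_natCast c, ← map_pow, ZMod.pow_card, sub_self]
    have h2 := congrArg CommaMorphism.left this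
    simp only [Category.assoc, Over.comp_left] at h2
    exact h2
  -- kernel
  have hker : ∀ {T : Over S} (x : T ⟶ Red.Ga S), x ≫ v = 1 → ∃ z, z ≫ i = x := by
    intro T x hx
    have hf : Red.gaFn x ^ p = Red.gaFn x := by
      have h := congrArg Red.gaFn hx
      rw [hv, gaFn_one, sub_eq_zero] at h
      exact h.symm
    obtain ⟨V, hV, hval, hd⟩ := exists_cover p (hpT T) _ hf
    obtain ⟨z, hz⟩ := exists_gluing (M := Multiplicative (ZMod p)) T (fun j => V j.toAdd)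
      (by rw [IsOpenCover] at hV ⊢; rw [← hV]; exact Multiplicative.toAdd.iSup_congr fun _ => rfl)
      fun j k hjk => hd _ _ hjk
    refine ⟨z ≫ e.inv, Over.OverMorphism.ext (Scheme.Cover.hom_ext (T.left.openCoverOfIsOpenCover V hV) _ _ fun j => ?_)⟩
    let w : Over.mk ((V j).ι ≫ T.hom) ⟶ T := Over.homMk (V j).ι rfl
    have h : w ≫ (z ≫ e.inv) ≫ i = w ≫ x := by
      refine gaFn_injective ?_
      rw [gaFn_comp w x, show w.left.appTop (Red.gaFn x) = _ from hval j, Category.assoc,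
        reassoc_of% (show w ≫ z = toUnit _ ≫ TwC.pt S _ (Multiplicative.ofAdd j) from hz (Multiplicative.ofAdd j))]
      exact hP _ j
    exact congrArg CommaMorphism.left h
  -- local sections
  have hmul : ∀ {T : Over S} (t : T ⟶ Red.Ga S ⊗ G'),
      t ≫ ((Red.Ga S ◁ i) ≫ μ[Red.Ga S]) = (t ≫ fst _ _) * ((t ≫ snd _ _) ≫ i) := fun {T} t => by
    rw [Hom.mul_def, ← lift_whiskerLeft, ← comp_lift, lift_fst_snd, Category.comp_id, Category.assoc]
  have hw : fst (Red.Ga S) G' ≫ v = ((Red.Ga S ◁ i) ≫ μ[Red.Ga S]) ≫ v := by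
    rw [← Category.id_comp ((Red.Ga S ◁ i) ≫ μ[Red.Ga S]), hmul, hv_mul, Category.id_comp,
      Category.id_comp, Category.assoc, huv, MonObj.comp_one, _root_.mul_one]
  have hlift : ∀ c : PullbackCone v v, ∃ z : c.pt ⟶ G', z ≫ i = c.fst⁻¹ * c.snd := fun c =>
    hker _ (by rw [hv_mul, hv_inv, c.condition, inv_mul_cancel])
  choose L hL using hlift
  have hpb : IsPullback (fst (Red.Ga S) G') ((Red.Ga S ◁ i) ≫ μ[Red.Ga S]) v v :=
    IsPullback.of_isLimit' ⟨hw⟩ (PullbackCone.IsLimit.mk hw (fun c => lift c.fst (L c))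
      (fun c => lift_fst _ _)
      (fun c => by rw [hmul, lift_fst, lift_snd, hL, mul_inv_cancel_left])
      (fun c m h₁ h₂ => by
        refine CartesianMonoidalCategory.hom_ext _ _ (by rw [lift_fst, h₁]) ?_
        rw [lift_snd, ← cancel_mono i, hL, ← h₂, hmul, h₁, inv_mul_cancel_left]))
  refine ⟨inferInstance, inferInstance, huv, hpb, ?_⟩
  let Z := (Red.Ga S).left
  let X : Z.affineOpens → Scheme.{u} := fun U => U.1
  let jU : ∀ U : Z.affineOpens, Over.mk (U.1.ι ≫ (Red.Ga S).hom) ⟶ Red.Ga S := fun U => Over.homMk U.1.ι rfl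
  let cU : ∀ U : Z.affineOpens, Γ((U.1 : Scheme.{u}), ⊤) := fun U => Red.gaFn (jU U)
  let q : ∀ U : Z.affineOpens, Spec (CommRingCat.of (H27ArtSch.AsAlg p (-(cU U)))) ⟶ Z := fun U =>
    haveI : IsAffine (U.1 : Scheme.{u}) := U.2
    Spec.map (CommRingCat.ofHom (algebraMap Γ((U.1 : Scheme.{u}), ⊤) (H27ArtSch.AsAlg p (-(cU U))))) ≫ (U.1 : Scheme.{u}).isoSpec.inv ≫ U.1.ι
  refine ⟨Presieve.ofArrows _ q, Scheme.fppfPrecoverage_le_fpqcPrecoverage _
    ((Scheme.ofArrows_mem_precoverage_iff (P := @Flat ⊓ @LocallyOfFinitePresentation)).2 ⟨fun y => ?_, fun U => ?_⟩), ?_⟩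
  · obtain ⟨U, hU, hy, -⟩ := exists_isAffineOpen_mem_and_subset (x := y) (U := (⊤ : Z.Opens)) trivial
    haveI : IsAffine (U : Scheme.{u}) := hU
    haveI : Module.Finite Γ((U : Scheme.{u}), ⊤) (H27ArtSch.AsAlg p (-(cU ⟨U, hU⟩))) := H27ArtSch.finite p _
    haveI : FaithfulSMul Γ((U : Scheme.{u}), ⊤) (H27ArtSch.AsAlg p (-(cU ⟨U, hU⟩))) :=
      (faithfulSMul_iff_algebraMap_injective _ _).2 (H27ArtSch.algebraMap_injective p _)
    obtain ⟨P', hP'⟩ := Algebra.IsIntegral.comap_surjective Γ((U : Scheme.{u}), ⊤) (H27ArtSch.AsAlg p (-(cU ⟨U, hU⟩)))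
      ((U : Scheme.{u}).isoSpec.hom ⟨y, hy⟩)
    refine ⟨⟨U, hU⟩, P', ?_⟩
    show U.ι ((U : Scheme.{u}).isoSpec.inv (Spec.map (CommRingCat.ofHom (algebraMap Γ((U : Scheme.{u}), ⊤) (H27ArtSch.AsAlg p (-(cU ⟨U, hU⟩))))) P')) = y
    refine (congrArg (fun z => U.ι ((U : Scheme.{u}).isoSpec.inv z)) hP').trans ?_
    show U.ι ((U : Scheme.{u}).isoSpec.inv ((U : Scheme.{u}).isoSpec.hom ⟨y, hy⟩)) = y
    rw [← Scheme.Hom.comp_apply ((U : Scheme.{u}).isoSpec.hom), Iso.hom_inv_id]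
    rfl
  · haveI : IsAffine (U.1 : Scheme.{u}) := U.2
    have het : Algebra.Etale Γ((U.1 : Scheme.{u}), ⊤) (H27ArtSch.AsAlg p (-(cU U))) := H27ArtSch.etale p _ (hpT (Over.mk (U.1.ι ≫ (Red.Ga S).hom)))
    haveI : Etale (Spec.map (CommRingCat.ofHom (algebraMap Γ((U.1 : Scheme.{u}), ⊤) (H27ArtSch.AsAlg p (-(cU U)))))) :=
      (HasRingHomProperty.Spec_iff (P := @Etale)).2 (RingHom.etale_algebraMap.2 het)
    exact ⟨inferInstance, inferInstance⟩
  · rintro S' f ⟨U⟩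
    haveI : IsAffine (U.1 : Scheme.{u}) := U.2
    let l : Spec (CommRingCat.of (H27ArtSch.AsAlg p (-(cU U)))) ⟶ (U.1 : Scheme.{u}) :=
      Spec.map (CommRingCat.ofHom (algebraMap Γ((U.1 : Scheme.{u}), ⊤) (H27ArtSch.AsAlg p (-(cU U))))) ≫ (U.1 : Scheme.{u}).isoSpec.inv
    let T : Over S := Over.mk (l ≫ U.1.ι ≫ (Red.Ga S).hom)
    let lT : T ⟶ Over.mk (U.1.ι ≫ (Red.Ga S).hom) := Over.homMk l rfl
    let ρ := (Scheme.ΓSpecIso (CommRingCat.of (H27ArtSch.AsAlg p (-(cU U))))).inv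
    obtain ⟨x, hx⟩ := gaFn_surjective (X := T) (ρ (H27ArtSch.asRoot p _))
    refine ⟨x.left, ?_⟩
    have hxv : x ≫ v = lT ≫ jU U := by
      refine gaFn_injective ?_
      rw [hv, hx, gaFn_comp lT (jU U)]
      show ρ _ - ρ _ ^ p = l.appTop (cU U)
      rw [show l.appTop (cU U) = ρ (algebraMap _ (H27ArtSch.AsAlg p (-(cU U))) (cU U)) from by
        simp only [l, Scheme.Hom.comp_appTop, appTop_isoSpec_inv]
        exact (ConcreteCategory.congr_hom (Scheme.ΓSpecIso_inv_naturality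
          (CommRingCat.ofHom (algebraMap Γ((U.1 : Scheme.{u}), ⊤) (H27ArtSch.AsAlg p (-(cU U)))))) _).symm]
      rw [← map_pow, ← map_sub]
      congr 1
      have := H27ArtSch.root_eq p (-(cU U))
      rw [map_neg] at this
      linear_combination -this
    exact (congrArg CommaMorphism.left hxv).trans (Category.assoc _ _ _)

end Groth.Agent.H8Props.ASeq
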